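import Groth.Agent.H8.RootLib

/-!
helper8: in an irreducible (no closed symmetric partition) root pairing over ℤ, any two roots are
joined by a chain of pairwise non-orthogonal roots.
-/

set_option autoImplicit false

namespace Groth.Agent.H8

open RootD

variable {ι M N : Type*} [AddCommGroup M] [AddCommGroup N] (P : RootPairing ι ℤ M N)

/-- Non-orthogonality of roots. -/
def NonOrth (a b : ι) : Prop := ¬ P.IsOrthogonal a b

lemma nonOrth_symm {a b : ι} (h : NonOrth P a b) : NonOrth P b a := fun h' => h h'.symm

lemma nonOrth_of_pairing_ne {a b : ι} (h : P.pairing a b ≠ 0) : NonOrth P a b := fun h' => h h'.1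

lemma nonOrth_of_add {a b k : ι} (hk : P.root k = P.root a + P.root b) :
    NonOrth P a k ∨ NonOrth P b k := by
  have h := RootPairing.pairing_eq_add_of_root_eq_add (l := k) hk
  rw [RootPairing.pairing_same] at h
  by_cases ha : P.pairing a k = 0
  · right
    apply nonOrth_of_pairing_ne
    rw [ha, zero_add] at h
    rw [← h]; norm_num
  · left
    exact nonOrth_of_pairing_ne P ha

lemma nonOrth_neg (a : ι) : NonOrth P a (P.reflectionPerm a a) := by
  apply nonOrth_of_pairing_ne
  rw [RootPairing.pairing_reflectionPerm_self_right, RootPairing.pairing_same]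
  norm_num

theorem reachable_of_irred
    (hirr : ∀ R' : Set ι, RootD.IsClosedSub P R' → RootD.IsSymmSub P R' → RootD.IsClosedSub P R'ᶜ →
      RootD.IsSymmSub P R'ᶜ → R' = ∅ ∨ R' = Set.univ)
    (i j : ι) : Relation.ReflTransGen (NonOrth P) i j := by
  set C : Set ι := {k | Relation.ReflTransGen (NonOrth P) i k} with hC
  have hiC : i ∈ C := Relation.ReflTransGen.refl
  have hcl : RootD.IsClosedSub P C := by
    intro a b k ha hb hk
    rcases nonOrth_of_add P hk with h | h
    · exact Relation.ReflTransGen.tail ha h
    · exact Relation.ReflTransGen.tail hb h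
  have hsy : RootD.IsSymmSub P C := by
    intro a ha
    exact Relation.ReflTransGen.tail ha (nonOrth_neg P a)
  have hccl : RootD.IsClosedSub P Cᶜ := by
    intro a b k ha hb hk hkC
    rcases nonOrth_of_add P hk with h | h
    · exact ha (Relation.ReflTransGen.tail hkC (nonOrth_symm P h))
    · exact hb (Relation.ReflTransGen.tail hkC (nonOrth_symm P h))
  have hcsy : RootD.IsSymmSub P Cᶜ := by
    intro a ha haC
    exact ha (Relation.ReflTransGen.tail haC (nonOrth_symm P (nonOrth_neg P a)))
  rcases hirr C hcl hsy hccl hcsy with h | h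
  · rw [h] at hiC; exact absurd hiC (Set.notMem_empty i)
  · have : j ∈ C := by rw [h]; trivial
    exact this

end Groth.Agent.H8
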