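import Groth.Agent.H8.PosSys

/-!
helper8: every positive non-simple root is a positive root plus a simple root; the root lattice has a
basis given by a simple system.
-/

set_option autoImplicit false

namespace Groth.Agent.H8

open RootD

variable {ι M N : Type*} [AddCommGroup M] [AddCommGroup N] {P : RootPairing ι ℤ M N}

/-- A positive root which is not simple is the sum of a positive root and a simple root. -/
lemma exists_simple_add_pos [Finite ι] {Δ : Set ι} (hΔ : IsSimpleSys P Δ) {k : ι}
    (hk : k ∈ posOf P Δ) (hkΔ : k ∉ Δ) :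
    ∃ d ∈ Δ, ∃ k' ∈ posOf P Δ, P.root k = P.root k' + P.root d := by
  classical
  have := Fintype.ofFinite ι
  have hc := (mem_posOf_iff hΔ k).mp hk
  obtain ⟨d, hcd, hpd⟩ := exists_pos_coef_pairing_pos P k (coef hΔ k) hc (coef_spec hΔ k)
  have hdΔ : d ∈ Δ := by
    by_contra h
    rw [coef_apply_of_not_mem hΔ h] at hcd
    exact lt_irrefl _ hcd
  have hkd : k ≠ d := fun h => hkΔ (h ▸ hdΔ)
  obtain ⟨k', hk'⟩ := P.root_sub_root_mem_of_pairingIn_pos (i := k) (j := d)
    (by rw [pairingIn_eq]; exact hpd) hkd
  refine ⟨d, hdΔ, k', ?_, by rw [hk']; abel⟩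
  have hcoef := coef_sub hΔ hk'
  rw [coef_simple hΔ hdΔ] at hcoef
  rcases coef_nonneg_or_nonpos hΔ k' with h | h
  · exact (mem_posOf_iff hΔ k').mpr h
  · exfalso
    have heq : coef hΔ k = Finsupp.single d 1 := by
      ext j
      have hj := h j
      rw [hcoef] at hj
      simp only [Finsupp.coe_sub, Pi.sub_apply] at hj
      by_cases hjd : j = d
      · subst hjd
        simp only [Finsupp.single_eq_same] at hj ⊢
        omega
      · rw [Finsupp.single_eq_of_ne hjd] at hj ⊢
        have := hc j
        omega
    have hr : P.root k = P.root d := by rw [← coef_spec hΔ k, heq]; simp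
    exact hkd (P.root.injective hr)

/-- The elements of the root lattice attached to the roots. -/
def latRoot (P : RootPairing ι ℤ M N) (i : ι) : Submodule.span ℤ (Set.range P.root) :=
  ⟨P.root i, Submodule.subset_span (Set.mem_range_self i)⟩

lemma span_image_eq_of_simple {Δ : Set ι} (hΔ : IsSimpleSys P Δ) :
    Submodule.span ℤ (P.root '' Δ) = Submodule.span ℤ (Set.range P.root) := by
  apply le_antisymm
  · exact Submodule.span_mono (Set.image_subset_range _ _)
  · rw [Submodule.span_le]
    rintro _ ⟨k, rfl⟩
    exact root_mem_span hΔ k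

/-- A simple system gives a basis of the root lattice. -/
noncomputable def simpleBasis {Δ : Set ι} (hΔ : IsSimpleSys P Δ) :
    Module.Basis Δ ℤ (Submodule.span ℤ (Set.range P.root)) :=
  (Module.Basis.span hΔ.linInd).map (LinearEquiv.ofEq _ _ (by
    rw [← span_image_eq_of_simple hΔ, Set.image_eq_range]))

lemma simpleBasis_apply {Δ : Set ι} (hΔ : IsSimpleSys P Δ) (d : Δ) :
    simpleBasis hΔ d = latRoot P d := by
  apply Subtype.ext
  simp only [simpleBasis, latRoot, Module.Basis.map_apply, LinearEquiv.coe_ofEq_apply]
  exact Module.Basis.coe_span_apply _ _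

end Groth.Agent.H8
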