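import Groth.Agent.H8.RootLib

/-!
helper8: comparing roots and coroots over ℤ: halves of coroots, the polarization identity
`ℓ(β) β^v = Σ a_α ℓ(α) α^v`, and small linear independence helpers.
-/

set_option autoImplicit false

namespace Groth.Agent.H8

open RootD

variable {ι M N : Type*} [AddCommGroup M] [AddCommGroup N] (P : RootPairing ι ℤ M N)

/-- If a coroot is twice another coroot, the corresponding roots are in ratio 1 : 2. -/
lemma root_eq_two_smul_of_coroot [Finite ι] {i j : ι} (h : (2 : ℤ) • P.coroot j = P.coroot i) :
    P.root j = (2 : ℤ) • P.root i := by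
  have := Module.IsReflexive.of_isPerfPair P.toLinearMap
  have := Module.IsReflexive.of_isPerfPair P.flip.toLinearMap
  have h1 : P.pairing i j = 1 := by
    have := congrArg (fun y => P.toLinearMap (P.root i) y) h
    simp only [map_smul, RootPairing.root_coroot_eq_pairing, RootPairing.pairing_same,
      smul_eq_mul] at this
    omega
  have h2 : P.pairing j i = 4 := by
    have := congrArg (fun y => P.toLinearMap (P.root j) y) h
    simp only [map_smul, RootPairing.root_coroot_eq_pairing, RootPairing.pairing_same,
      smul_eq_mul] at this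
    omega
  exact (P.pairing_one_four_iff i j).mp ⟨h1, h2⟩

variable {P} in
lemma eq_of_smul_eq_smul_of_linIndep {Δ : Set ι} (hli : LinearIndepOn ℤ P.root Δ) {i i' : ι}
    (hi : i ∈ Δ) (hi' : i' ∈ Δ) {a b : ℤ} (ha : a ≠ 0) (h : a • P.root i = b • P.root i') :
    i = i' := by
  classical
  by_contra hne
  have := linearIndepOn_iff.mp hli (Finsupp.single i a - Finsupp.single i' b)
    (Submodule.sub_mem _ (Finsupp.single_mem_supported ℤ _ hi)
      (Finsupp.single_mem_supported ℤ _ hi'))
    (by rw [map_sub, Finsupp.linearCombination_single, Finsupp.linearCombination_single, h,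
      sub_self])
  have h2 := congrArg (fun f => f i) this
  simp only [Finsupp.coe_sub, Pi.sub_apply, Finsupp.single_eq_same,
    Finsupp.single_eq_of_ne hne, sub_zero, Finsupp.coe_zero, Pi.zero_apply] at h2
  exact ha h2

lemma linIndep_smul {κ : Type*} {v : κ → M} (hv : LinearIndependent ℤ v) (c : κ → ℤ)
    (hc : ∀ i, c i ≠ 0) : LinearIndependent ℤ (fun i => c i • v i) := by
  classical
  rw [linearIndependent_iff'] at hv ⊢
  intro s g hg i hi
  have := hv s (fun i => g i * c i) (by
    rw [← hg]
    apply Finset.sum_congr rfl
    intro j _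
    rw [mul_smul]) i hi
  rcases mul_eq_zero.mp this with h | h
  · exact h
  · exact absurd h (hc i)

section Form

variable [Fintype ι]

/-- `ℓ(β) β^v = Σ a_α ℓ(α) α^v` whenever `β = Σ a_α α`. -/
lemma scaled_coroot (k : ι) (c : ι →₀ ℤ) (hc : Finsupp.linearCombination ℤ P.root c = P.root k) :
    P.RootForm (P.root k) (P.root k) • P.coroot k =
      c.sum (fun i a => (a * P.RootForm (P.root i) (P.root i)) • P.coroot i) := by
  rw [P.rootForm_self_smul_coroot k, ← hc, Finsupp.linearCombination_apply, map_finsuppSum,
    Finsupp.smul_sum]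
  apply Finsupp.sum_congr
  intro i _
  rw [map_smul, smul_comm, ← P.rootForm_self_smul_coroot i, mul_smul]

end Form

end Groth.Agent.H8
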