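import Groth.Agent.H8.GS
import Groth.Agent.S5457
import Mathlib.Algebra.Order.Monoid.Prod
import Mathlib.Algebra.Order.Group.PiLex

/-!
helper8: positive systems adapted to a "face": given a set of roots `T`, a lexicographic functional
whose first block vanishes exactly on the roots with a positive multiple in the span of `T`
(built from the integral Gram–Schmidt of `GS.lean`), and whose second block `φ₂` is arbitrary.
-/

set_option autoImplicit false

namespace Groth.Agent.H8

open RootD

variable {ι M N : Type*} [AddCommGroup M] [AddCommGroup N] (P : RootPairing ι ℤ M N)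

/-- The roots some positive multiple of which lies in the span of the roots of `T`. -/
def traceSet (T : Set ι) : Set ι :=
  {k | ∃ n : ℕ, 0 < n ∧ n • P.root k ∈ Submodule.span ℤ (P.root '' T)}

lemma subset_traceSet (T : Set ι) : T ⊆ traceSet P T := fun k hk =>
  ⟨1, one_pos, by rw [one_smul]; exact Submodule.subset_span ⟨k, hk, rfl⟩⟩

variable [Fintype ι]

open Classical in
/-- The list of roots of `T`. -/
noncomputable def vsOf (T : Set ι) : List M :=
  (Finset.univ.filter (fun k => k ∈ T)).toList.map P.root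

lemma mem_vsOf {T : Set ι} {v : M} : v ∈ vsOf P T ↔ v ∈ P.root '' T := by
  unfold vsOf
  simp only [List.mem_map, Finset.mem_toList, Finset.mem_filter, Finset.mem_univ, true_and]
  rfl

lemma span_vsOf (T : Set ι) :
    Submodule.span ℤ {v | v ∈ vsOf P T} = Submodule.span ℤ (P.root '' T) := by
  congr 1
  ext v
  exact mem_vsOf P

lemma vsOf_mem_rootSpan (T : Set ι) :
    ∀ v ∈ vsOf P T, v ∈ Submodule.span ℤ (Set.range P.root) := by
  intro v hv
  obtain ⟨k, _, rfl⟩ := (mem_vsOf P).mp hv
  exact Submodule.subset_span (Set.mem_range_self k)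

/-- The first (face) block of the functional. -/
noncomputable def faceHom (T : Set ι) : M →+ Lex (Fin (Fintype.card ι) → ℤ) where
  toFun x := toLex (fun t => P.RootForm x (Wt P (vsOf P T) (P.root ((Fintype.equivFin ι).symm t))))
  map_zero' := by simp only [map_zero, LinearMap.zero_apply]; rfl
  map_add' x y := by simp only [map_add, LinearMap.add_apply]; rfl

lemma faceHom_apply (T : Set ι) (x : M) (t : Fin (Fintype.card ι)) :
    ofLex (faceHom P T x) t =
      P.RootForm x (Wt P (vsOf P T) (P.root ((Fintype.equivFin ι).symm t))) := rfl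

lemma faceHom_eq_zero_of (T : Set ι) {x : M}
    (hx : ∃ n : ℕ, 0 < n ∧ n • x ∈ Submodule.span ℤ (P.root '' T)) : faceHom P T x = 0 := by
  obtain ⟨n, hn, hmem⟩ := hx
  rw [← span_vsOf] at hmem
  show toLex _ = toLex 0
  congr 1
  funext t
  have := Wt_orth P (vsOf P T) (P.root ((Fintype.equivFin ι).symm t)) _ hmem
  rw [map_nsmul, LinearMap.smul_apply, nsmul_eq_mul] at this
  rcases mul_eq_zero.mp this with h | h
  · exact absurd h (by exact_mod_cast hn.ne')
  · exact h

lemma faceHom_root_eq_zero_iff (T : Set ι) (k : ι) :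
    faceHom P T (P.root k) = 0 ↔ k ∈ traceSet P T := by
  constructor
  · intro h
    have := congrArg (fun z : Lex (Fin (Fintype.card ι) → ℤ) => (ofLex z) (Fintype.equivFin ι k)) h
    simp only [faceHom_apply, Equiv.symm_apply_apply] at this
    obtain ⟨n, hn, hmem⟩ := (Wt_eq_zero_iff P _ (vsOf_mem_rootSpan P T)
      (Submodule.subset_span (Set.mem_range_self k))).mp this
    rw [span_vsOf] at hmem
    exact ⟨n, hn, hmem⟩
  · intro h
    exact faceHom_eq_zero_of P T h

variable {G : Type*} [AddCommGroup G] [LinearOrder G] [IsOrderedAddMonoid G]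

/-- The full lexicographic functional. -/
noncomputable def faceLex (T : Set ι) (φ : M →+ G) : M →+ Lex (Fin (Fintype.card ι) → ℤ) ×ₗ G where
  toFun x := toLex (faceHom P T x, φ x)
  map_zero' := by simp only [map_zero]; rfl
  map_add' x y := by simp only [map_add]; rfl

/-- The positive system cut out by the lexicographic functional. -/
def facePos (T : Set ι) (φ : M →+ G) : Set ι := {k | 0 < faceLex P T φ (P.root k)}

lemma mem_facePos_iff (T : Set ι) (φ : M →+ G) (k : ι) :
    k ∈ facePos P T φ ↔ 0 < faceHom P T (P.root k) ∨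
      (0 = faceHom P T (P.root k) ∧ 0 < φ (P.root k)) := by
  show (toLex (0, 0) : Lex (Fin (Fintype.card ι) → ℤ) ×ₗ G) < toLex (faceHom P T (P.root k), φ (P.root k)) ↔ _
  exact Prod.Lex.toLex_lt_toLex

lemma isPosSys_facePos [Finite ι] (T : Set ι) (φ : M →+ G)
    (hφ : ∀ k ∈ traceSet P T, φ (P.root k) ≠ 0) : IsPosSys P (facePos P T φ) := by
  apply Groth.Agent.S5457.result P (faceLex P T φ)
  intro i
  rcases lt_trichotomy (faceLex P T φ (P.root i)) 0 with h | h | h
  · exact Or.inr h
  · exfalso
    have h1 : faceHom P T (P.root i) = 0 := congrArg (fun z => (ofLex z).1) h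
    have h2 : φ (P.root i) = 0 := congrArg (fun z => (ofLex z).2) h
    exact hφ i ((faceHom_root_eq_zero_iff P T i).mp h1) h2
  · exact Or.inl h

lemma faceHom_nonneg_of_mem (T : Set ι) (φ : M →+ G) {k : ι} (hk : k ∈ facePos P T φ) :
    0 ≤ faceHom P T (P.root k) := by
  rcases (mem_facePos_iff P T φ k).mp hk with h | h
  · exact h.le
  · exact h.1.le

lemma mem_facePos_of_trace (T : Set ι) (φ : M →+ G) {k : ι} (hk : k ∈ traceSet P T) :
    k ∈ facePos P T φ ↔ 0 < φ (P.root k) := by
  have h0 := (faceHom_root_eq_zero_iff P T k).mpr hk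
  rw [mem_facePos_iff, h0]
  simp only [true_and]
  exact or_iff_right (lt_irrefl _)

lemma trace_of_add (T : Set ι) (φ : M →+ G) {d a b : ι} (hd : d ∈ traceSet P T)
    (ha : a ∈ facePos P T φ) (hb : b ∈ facePos P T φ) (h : P.root d = P.root a + P.root b) :
    a ∈ traceSet P T ∧ b ∈ traceSet P T := by
  have h0 := (faceHom_root_eq_zero_iff P T d).mpr hd
  rw [h, map_add] at h0
  have h1 := faceHom_nonneg_of_mem P T φ ha
  have h2 := faceHom_nonneg_of_mem P T φ hb
  have e1 : faceHom P T (P.root a) = 0 := by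
    apply le_antisymm _ h1
    calc faceHom P T (P.root a) ≤ faceHom P T (P.root a) + faceHom P T (P.root b) :=
          le_add_of_nonneg_right h2
      _ = 0 := h0
  have e2 : faceHom P T (P.root b) = 0 := by rw [e1, zero_add] at h0; exact h0
  exact ⟨(faceHom_root_eq_zero_iff P T a).mp e1, (faceHom_root_eq_zero_iff P T b).mp e2⟩

lemma trace_of_lc (T : Set ι) (φ : M →+ G) {x : M}
    (hx : faceHom P T x = 0) {c : ι →₀ ℤ}
    (hc : c ∈ Finsupp.supported ℤ ℤ (facePos P T φ)) (hcn : ∀ j, 0 ≤ c j)
    (hlc : Finsupp.linearCombination ℤ P.root c = x) : ∀ j, c j ≠ 0 → j ∈ traceSet P T := by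
  intro j hj
  rw [← hlc, Finsupp.linearCombination_apply, map_finsuppSum] at hx
  simp only [map_zsmul] at hx
  have hnn : ∀ l ∈ c.support, 0 ≤ c l • faceHom P T (P.root l) := by
    intro l hl
    have hlS : l ∈ facePos P T φ := hc hl
    exact zsmul_nonneg (faceHom_nonneg_of_mem P T φ hlS) (hcn l)
  have hall := (Finset.sum_eq_zero_iff_of_nonneg hnn).mp hx
  have hjs : j ∈ c.support := Finsupp.mem_support_iff.mpr hj
  have hterm := hall j hjs
  have hjS : j ∈ facePos P T φ := hc hjs
  have hy := faceHom_nonneg_of_mem P T φ hjS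
  have hcpos : 0 < c j := lt_of_le_of_ne (hcn j) (Ne.symm hj)
  apply (faceHom_root_eq_zero_iff P T j).mp
  by_contra hne
  have hpos : 0 < faceHom P T (P.root j) := lt_of_le_of_ne hy (Ne.symm hne)
  have := zsmul_pos hpos hcpos
  rw [hterm] at this
  exact lt_irrefl _ this

end Groth.Agent.H8
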