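import Groth.Agent.H8.PosSys

/-!
helper8: integral Gram–Schmidt for the canonical form `RootForm` of a finite root pairing over ℤ.
For a list `vs` of vectors and a vector `z`, `Wt P vs z` is (a positive multiple of) the component of
`z` orthogonal to the span of `vs`: it is orthogonal to `vs`, differs from `c • z` (`c > 0`) by an
element of the span of `vs`, and pairs to zero with `z` exactly when a positive multiple of `z` lies
in that span.
-/

set_option autoImplicit false

namespace Groth.Agent.H8

open RootD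

variable {ι M N : Type*} [AddCommGroup M] [AddCommGroup N] (P : RootPairing ι ℤ M N) [Fintype ι]

lemma rootForm_nonneg (x : M) : 0 ≤ P.RootForm x x := by
  rw [P.rootForm_apply_apply]
  exact Finset.sum_nonneg (fun i _ => mul_self_nonneg _)

lemma rootForm_eq_zero_of_self {u : M} (h : P.RootForm u u = 0) (z : M) : P.RootForm z u = 0 := by
  rw [P.rootForm_apply_apply] at h ⊢
  have h' := (Finset.sum_eq_zero_iff_of_nonneg (fun i _ => mul_self_nonneg _)).mp h
  apply Finset.sum_eq_zero
  intro i _
  have := h' i (Finset.mem_univ _)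
  rw [mul_self_eq_zero.mp this, mul_zero]

/-- One step of integral Gram–Schmidt: make `z` orthogonal to `u`. -/
noncomputable def proj (u z : M) : M :=
  if P.RootForm u u = 0 then z else P.RootForm u u • z - P.RootForm z u • u

lemma proj_orth_self (u z : M) : P.RootForm (proj P u z) u = 0 := by
  unfold proj
  split_ifs with h
  · exact rootForm_eq_zero_of_self P h z
  · simp only [map_sub, map_smul, LinearMap.sub_apply, LinearMap.smul_apply, smul_eq_mul]
    ring

lemma proj_orth {u u' y : M} (hy : P.RootForm y u' = 0) (hu : P.RootForm u u' = 0) :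
    P.RootForm (proj P u y) u' = 0 := by
  unfold proj
  split_ifs with h
  · exact hy
  · simp only [map_sub, map_smul, LinearMap.sub_apply, LinearMap.smul_apply, smul_eq_mul, hy, hu]
    ring

lemma proj_eq (u z : M) : ∃ c : ℤ, 0 < c ∧ ∃ t : ℤ, proj P u z = c • z - t • u := by
  unfold proj
  split_ifs with h
  · exact ⟨1, one_pos, 0, by simp⟩
  · exact ⟨P.RootForm u u, lt_of_le_of_ne (rootForm_nonneg P u) (Ne.symm h), P.RootForm z u, rfl⟩

/-- Successive projections along a list. -/
noncomputable def Wp : List M → M → M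
  | [], z => z
  | u :: us, z => proj P u (Wp us z)

lemma Wp_orth : ∀ (us : List M), us.Pairwise (fun a b => P.RootForm a b = 0) →
    ∀ z : M, ∀ u ∈ us, P.RootForm (Wp P us z) u = 0
  | [], _, _, u, hu => by simp at hu
  | v :: us, h, z, u, hu => by
    rw [List.pairwise_cons] at h
    simp only [Wp]
    rcases List.mem_cons.mp hu with rfl | hu'
    · exact proj_orth_self P _ _
    · exact proj_orth P (Wp_orth us h.2 z u hu') (h.1 u hu')

lemma Wp_sub : ∀ (us : List M) (z : M), ∃ c : ℤ, 0 < c ∧
    Wp P us z - c • z ∈ Submodule.span ℤ {u | u ∈ us}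
  | [], z => ⟨1, one_pos, by simp [Wp]⟩
  | v :: us, z => by
    obtain ⟨c, hc, hmem⟩ := Wp_sub us z
    obtain ⟨c', hc', t, ht⟩ := proj_eq P v (Wp P us z)
    refine ⟨c' * c, mul_pos hc' hc, ?_⟩
    simp only [Wp]
    rw [ht]
    have e : c' • Wp P us z - t • v - (c' * c) • z = c' • (Wp P us z - c • z) - t • v := by
      rw [smul_sub, mul_smul]; abel
    rw [e]
    have hmono : Submodule.span ℤ {u | u ∈ us} ≤ Submodule.span ℤ {u | u ∈ v :: us} :=
      Submodule.span_mono (fun x hx => List.mem_cons_of_mem v hx)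
    apply Submodule.sub_mem
    · exact Submodule.smul_mem _ _ (hmono hmem)
    · exact Submodule.smul_mem _ _ (Submodule.subset_span (List.mem_cons_self))

/-- Integral Gram–Schmidt orthogonalisation of a list. -/
noncomputable def GS : List M → List M
  | [] => []
  | v :: vs => Wp P (GS vs) v :: GS vs

lemma GS_pairwise : ∀ vs : List M, (GS P vs).Pairwise (fun a b => P.RootForm a b = 0)
  | [] => by simp [GS]
  | v :: vs => by
    simp only [GS]
    rw [List.pairwise_cons]
    exact ⟨fun u hu => Wp_orth P _ (GS_pairwise vs) v u hu, GS_pairwise vs⟩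

lemma GS_span : ∀ vs : List M,
    Submodule.span ℤ {u | u ∈ GS P vs} ≤ Submodule.span ℤ {v | v ∈ vs}
  | [] => by simp [GS]
  | v :: vs => by
    simp only [GS]
    rw [Submodule.span_le]
    intro x hx
    rcases List.mem_cons.mp hx with rfl | hx'
    · obtain ⟨c, _, hmem⟩ := Wp_sub P (GS P vs) v
      have h1 := GS_span vs hmem
      have hmono : Submodule.span ℤ {u | u ∈ vs} ≤ Submodule.span ℤ {u | u ∈ v :: vs} :=
        Submodule.span_mono (fun x hx => List.mem_cons_of_mem v hx)
      have h2 : c • v ∈ Submodule.span ℤ {u | u ∈ v :: vs} :=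
        Submodule.smul_mem _ _ (Submodule.subset_span (List.mem_cons_self))
      have := Submodule.add_mem _ (hmono h1) h2
      simpa using this
    · have hmono : Submodule.span ℤ {u | u ∈ vs} ≤ Submodule.span ℤ {u | u ∈ v :: vs} :=
        Submodule.span_mono (fun x hx => List.mem_cons_of_mem v hx)
      exact hmono (GS_span vs (Submodule.subset_span hx'))

lemma GS_sat : ∀ vs : List M, ∀ v ∈ vs, ∃ c : ℤ, 0 < c ∧
    c • v ∈ Submodule.span ℤ {u | u ∈ GS P vs}
  | [], v, hv => by simp at hv
  | w :: vs, v, hv => by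
    have hmono : Submodule.span ℤ {u | u ∈ GS P vs} ≤ Submodule.span ℤ {u | u ∈ GS P (w :: vs)} :=
      Submodule.span_mono (fun x hx => by simp only [GS]; exact List.mem_cons_of_mem _ hx)
    rcases List.mem_cons.mp hv with rfl | hv'
    · obtain ⟨c, hc, hmem⟩ := Wp_sub P (GS P vs) v
      refine ⟨c, hc, ?_⟩
      have h1 : Wp P (GS P vs) v ∈ Submodule.span ℤ {u | u ∈ GS P (v :: vs)} :=
        Submodule.subset_span (by simp only [GS]; exact List.mem_cons_self)
      have := Submodule.sub_mem _ h1 (hmono hmem)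
      simpa using this
    · obtain ⟨c, hc, hmem⟩ := GS_sat vs v hv'
      exact ⟨c, hc, hmono hmem⟩

/-- The component of `z` orthogonal to the span of `vs`, up to a positive integer factor. -/
noncomputable def Wt (vs : List M) (z : M) : M := Wp P (GS P vs) z

lemma Wt_orth (vs : List M) (z : M) :
    ∀ x ∈ Submodule.span ℤ {v | v ∈ vs}, P.RootForm x (Wt P vs z) = 0 := by
  have h1 : ∀ u ∈ GS P vs, P.RootForm (Wt P vs z) u = 0 :=
    fun u hu => Wp_orth P _ (GS_pairwise P vs) z u hu
  have h2 : ∀ x ∈ Submodule.span ℤ {u | u ∈ GS P vs}, P.RootForm (Wt P vs z) x = 0 := by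
    intro x hx
    induction hx using Submodule.span_induction with
    | mem y hy => exact h1 y hy
    | zero => simp
    | add y y' _ _ hy hy' => rw [map_add, hy, hy', add_zero]
    | smul a y _ hy => rw [map_smul, hy, smul_zero]
  have h3 : ∀ v ∈ vs, P.RootForm (Wt P vs z) v = 0 := by
    intro v hv
    obtain ⟨c, hc, hmem⟩ := GS_sat P vs v hv
    have := h2 _ hmem
    rw [map_smul, smul_eq_mul] at this
    rcases mul_eq_zero.mp this with h | h
    · omega
    · exact h
  intro x hx
  rw [rootForm_comm]
  induction hx using Submodule.span_induction with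
  | mem y hy => exact h3 y hy
  | zero => simp
  | add y y' _ _ hy hy' => rw [map_add, hy, hy', add_zero]
  | smul a y _ hy => rw [map_smul, hy, smul_zero]

lemma Wt_sub (vs : List M) (z : M) : ∃ c : ℤ, 0 < c ∧
    Wt P vs z - c • z ∈ Submodule.span ℤ {v | v ∈ vs} := by
  obtain ⟨c, hc, hmem⟩ := Wp_sub P (GS P vs) z
  exact ⟨c, hc, GS_span P vs hmem⟩

lemma Wt_mem_rootSpan (vs : List M) (hvs : ∀ v ∈ vs, v ∈ Submodule.span ℤ (Set.range P.root))
    {z : M} (hz : z ∈ Submodule.span ℤ (Set.range P.root)) :
    Wt P vs z ∈ Submodule.span ℤ (Set.range P.root) := by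
  obtain ⟨c, _, hmem⟩ := Wt_sub P vs z
  have hle : Submodule.span ℤ {v | v ∈ vs} ≤ Submodule.span ℤ (Set.range P.root) :=
    Submodule.span_le.mpr hvs
  have := Submodule.add_mem _ (hle hmem) (Submodule.smul_mem _ c hz)
  simpa using this

lemma Wt_nonneg (vs : List M) (z : M) : 0 ≤ P.RootForm z (Wt P vs z) := by
  obtain ⟨c, hc, hmem⟩ := Wt_sub P vs z
  have e : P.RootForm (Wt P vs z) (Wt P vs z) = c * P.RootForm z (Wt P vs z) := by
    have h0 := Wt_orth P vs z _ hmem
    rw [map_sub, LinearMap.sub_apply, map_smul, LinearMap.smul_apply, smul_eq_mul] at h0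
    linarith
  have := rootForm_nonneg P (Wt P vs z)
  rw [e] at this
  by_contra hneg
  push Not at hneg
  nlinarith

lemma Wt_eq_zero_iff (vs : List M) (hvs : ∀ v ∈ vs, v ∈ Submodule.span ℤ (Set.range P.root))
    {z : M} (hz : z ∈ Submodule.span ℤ (Set.range P.root)) :
    P.RootForm z (Wt P vs z) = 0 ↔ ∃ n : ℕ, 0 < n ∧ n • z ∈ Submodule.span ℤ {v | v ∈ vs} := by
  obtain ⟨c, hc, hmem⟩ := Wt_sub P vs z
  constructor
  · intro h0
    have e : P.RootForm (Wt P vs z) (Wt P vs z) = c * P.RootForm z (Wt P vs z) := by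
      have h0' := Wt_orth P vs z _ hmem
      rw [map_sub, LinearMap.sub_apply, map_smul, LinearMap.smul_apply, smul_eq_mul] at h0'
      linarith
    rw [h0, mul_zero] at e
    have hw : Wt P vs z = 0 := by
      by_contra hne
      have := rootForm_self_pos P (Wt_mem_rootSpan P vs hvs hz) hne
      rw [e] at this
      exact lt_irrefl _ this
    refine ⟨c.toNat, by omega, ?_⟩
    have e2 : (c.toNat : ℕ) • z = -(Wt P vs z - c • z) := by
      rw [hw, zero_sub, neg_neg, ← natCast_zsmul, Int.toNat_of_nonneg hc.le]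
    rw [e2]
    exact Submodule.neg_mem _ hmem
  · rintro ⟨n, hn, hmem'⟩
    have := Wt_orth P vs z _ hmem'
    rw [map_nsmul, LinearMap.smul_apply, nsmul_eq_mul] at this
    rcases mul_eq_zero.mp this with h | h
    · exact absurd h (by exact_mod_cast hn.ne')
    · exact h

end Groth.Agent.H8
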