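import Groth.Agent.H8.RootLib

/-!
helper8: in an irreducible (no closed symmetric partition) finite root pairing over ℤ, the Weyl
orbit of any root is not orthogonal to any given root.
-/

set_option autoImplicit false

namespace Groth.Agent.H8

open RootD

variable {ι M N : Type*} [AddCommGroup M] [AddCommGroup N] (P : RootPairing ι ℤ M N)

theorem exists_weyl_not_orth [Finite ι] [Fintype ι]
    (hirr : ∀ R' : Set ι, RootD.IsClosedSub P R' → RootD.IsSymmSub P R' → RootD.IsClosedSub P R'ᶜ →
      RootD.IsSymmSub P R'ᶜ → R' = ∅ ∨ R' = Set.univ)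
    (i j : ι) : ∃ w ∈ P.weylGroup, ¬ P.IsOrthogonal (w • i) j := by
  have := Module.IsReflexive.of_isPerfPair P.toLinearMap
  set O : Set ι := {l | ∃ w ∈ P.weylGroup, w • i = l} with hO
  have hiO : i ∈ O := ⟨1, one_mem _, one_smul _ _⟩
  have hOstable : ∀ l ∈ O, ∀ k : ι, P.reflectionPerm k l ∈ O := by
    rintro l ⟨w, hw, rfl⟩ k
    exact ⟨RootPairing.Equiv.reflection P k * w, mul_mem (P.reflection_mem_weylGroup k) hw,
      by rw [mul_smul]; rfl⟩
  set V := Submodule.span ℤ (P.root '' O) with hV
  set T : Set ι := {k | ∀ l ∈ O, P.pairing k l = 0} with hT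
  have hdich : ∀ k, k ∉ T → ∃ c : ℤ, c ≠ 0 ∧ c • P.root k ∈ V := by
    intro k hk
    simp only [hT, Set.mem_ofPred_eq, not_forall] at hk
    obtain ⟨l, hl, hne⟩ := hk
    have hne' : P.pairing l k ≠ 0 := fun h => hne ((P.pairing_eq_zero_iff).mp h)
    refine ⟨P.pairing l k, hne', ?_⟩
    have e : P.pairing l k • P.root k = P.root l - P.root (P.reflectionPerm k l) := by
      rw [RootPairing.root_reflectionPerm, RootPairing.reflection_apply_root]; abel
    rw [e]
    exact Submodule.sub_mem _ (Submodule.subset_span ⟨l, hl, rfl⟩)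
      (Submodule.subset_span ⟨_, hOstable l hl k, rfl⟩)
  have hRF : ∀ k ∈ T, ∀ x ∈ V, P.RootForm (P.root k) x = 0 := by
    intro k hk x hx
    induction hx using Submodule.span_induction with
    | mem y hy =>
      obtain ⟨l, hl, rfl⟩ := hy
      have := two_mul_rootForm_root P l k
      rw [hk l hl, mul_zero] at this
      rw [rootForm_comm]; linarith
    | zero => simp
    | add x y _ _ hx hy => rw [map_add, hx, hy, add_zero]
    | smul a x _ hx => rw [map_smul, hx, smul_zero]
  have hTc : ∀ k, k ∈ T → ¬ ∃ c : ℤ, c ≠ 0 ∧ c • P.root k ∈ V := by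
    rintro k hk ⟨c, hc, hcV⟩
    have := hRF k hk _ hcV
    rw [map_smul, smul_eq_mul] at this
    have hpos := rootForm_root_pos P k
    rcases mul_eq_zero.mp this with h | h
    · exact hc h
    · linarith
  have hTclosed : RootD.IsClosedSub P T := by
    intro a b k ha hb hk l hl
    rw [RootPairing.pairing_eq_add_of_root_eq_add hk, ha l hl, hb l hl, add_zero]
  have hTsymm : RootD.IsSymmSub P T := by
    intro a ha l hl
    rw [RootPairing.pairing_reflectionPerm_self_left, ha l hl, neg_zero]
  have hTcclosed : RootD.IsClosedSub P Tᶜ := by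
    intro a b k ha hb hk hkT
    obtain ⟨c1, hc1, h1⟩ := hdich a ha
    obtain ⟨c2, hc2, h2⟩ := hdich b hb
    apply hTc k hkT
    refine ⟨c1 * c2, mul_ne_zero hc1 hc2, ?_⟩
    have e : (c1 * c2) • P.root k = c2 • (c1 • P.root a) + c1 • (c2 • P.root b) := by
      rw [hk, smul_add, smul_smul, smul_smul, mul_comm c2 c1]
    rw [e]
    exact Submodule.add_mem _ (Submodule.smul_mem _ _ h1) (Submodule.smul_mem _ _ h2)
  have hTcsymm : RootD.IsSymmSub P Tᶜ := by
    intro a ha haT
    apply ha
    intro l hl
    have := haT l hl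
    rw [RootPairing.pairing_reflectionPerm_self_left] at this
    linarith
  have hTc_univ : Tᶜ = Set.univ := by
    rcases hirr Tᶜ hTcclosed hTcsymm (by rwa [compl_compl]) (by rwa [compl_compl]) with h | h
    · exfalso
      have : i ∈ Tᶜ := by
        intro hiT
        have := hiT i hiO
        rw [RootPairing.pairing_same] at this
        norm_num at this
      rw [h] at this; exact this
    · exact h
  have hjT : j ∉ T := by
    have : j ∈ Tᶜ := by rw [hTc_univ]; trivial
    exact this
  simp only [hT, Set.mem_ofPred_eq, not_forall] at hjT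
  obtain ⟨l, ⟨w, hw, rfl⟩, hne⟩ := hjT
  exact ⟨w, hw, fun h => hne h.2⟩

end Groth.Agent.H8
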