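import Groth.Agent.H8.RootLib

/-!
helper8: systems of positive roots (in the combinatorial sense of `RootD.IsPosSys`) over ℤ:
non-negative combinations of positive roots never vanish, and the indecomposable positive roots
form a simple system.
-/

set_option autoImplicit false

namespace Groth.Agent.H8

open RootD

variable {ι M N : Type*} [AddCommGroup M] [AddCommGroup N] {P : RootPairing ι ℤ M N}

lemma lc_mem_natSpan {S : Set ι} {c : ι →₀ ℤ} (hc : ∀ j, 0 ≤ c j)
    (hsupp : c ∈ Finsupp.supported ℤ ℤ S) :
    Finsupp.linearCombination ℤ P.root c ∈ natSpan P S := by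
  rw [Finsupp.linearCombination_apply]
  apply AddSubmonoidClass.finsuppSum_mem
  intro j hj
  have hjS : j ∈ S := hsupp (Finsupp.mem_support_iff.mpr hj)
  have e : c j • P.root j = (c j).toNat • P.root j := by
    rw [← natCast_zsmul, Int.toNat_of_nonneg (hc j)]
  rw [e]
  exact AddSubmonoid.nsmul_mem _ (AddSubmonoid.subset_closure (Set.mem_image_of_mem P.root hjS)) _

lemma smul_neg_idx (g : P.Aut) (a : ι) :
    g • P.reflectionPerm a a = P.reflectionPerm (g • a) (g • a) := by
  apply P.root.injective
  rw [root_smul_idx, root_neg, root_neg, root_smul_idx, smul_neg]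

lemma smul_mem_natSpan_image (g : P.Aut) {S : Set ι} {x : M} (hx : x ∈ natSpan P S) :
    g • x ∈ natSpan P ((fun i => g • i) '' S) := by
  unfold RootD.natSpan at hx ⊢
  induction hx using AddSubmonoid.closure_induction with
  | mem y hy =>
    obtain ⟨a, ha, rfl⟩ := hy
    apply AddSubmonoid.subset_closure
    exact ⟨g • a, ⟨a, ha, rfl⟩, by rw [root_smul_idx]⟩
  | zero => rw [smul_zero]; exact AddSubmonoid.zero_mem _
  | add y z _ _ hy hz => rw [smul_add]; exact AddSubmonoid.add_mem _ hy hz

lemma isPosSys_image (g : P.Aut) {S : Set ι} (hS : IsPosSys P S) :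
    IsPosSys P ((fun i => g • i) '' S) where
  disjoint := by
    rintro _ ⟨a, ha, rfl⟩ ⟨b, hb, hba⟩
    simp only at hba
    rw [← smul_neg_idx] at hba
    have : b = P.reflectionPerm a a := MulAction.injective g hba
    rw [this] at hb
    exact hS.disjoint ha hb
  cover := by
    intro k
    rcases hS.cover (g⁻¹ • k) with h | h
    · left; exact ⟨g⁻¹ • k, h, by simp⟩
    · right
      refine ⟨_, h, ?_⟩
      simp only
      rw [smul_neg_idx, smul_inv_smul]
  sat := by
    intro k n hn hk
    have h1 := smul_mem_natSpan_image (P := P) g⁻¹ hk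
    have e : (fun i => g⁻¹ • i) '' ((fun i => g • i) '' S) = S := by
      rw [Set.image_image]; simp
    rw [e, smul_comm, ← root_smul_idx] at h1
    exact ⟨g⁻¹ • k, hS.sat n hn h1, by simp⟩

lemma isSimpleSys_image (g : P.Aut) {Δ : Set ι} (hΔ : IsSimpleSys P Δ) :
    IsSimpleSys P ((fun i => g • i) '' Δ) where
  linInd := by
    have h1 := hΔ.linInd.map_injOn (RootPairing.Equiv.weightHom P g).toLinearMap
      (fun x _ y _ hxy => (RootPairing.Equiv.weightHom P g).injective hxy)
    have h2 : (RootPairing.Equiv.weightHom P g).toLinearMap ∘ P.root = P.root ∘ (fun i => g • i) := by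
      funext i
      simp only [Function.comp_apply, LinearEquiv.coe_coe]
      rw [root_smul_idx]; rfl
    rw [h2] at h1
    exact LinearIndepOn.image_of_comp _ _ h1
  mem_or_neg_mem k := by
    rcases hΔ.mem_or_neg_mem (g⁻¹ • k) with h | h
    · left
      have := smul_mem_natSpan_image (P := P) g h
      rwa [← root_smul_idx, smul_inv_smul] at this
    · right
      have := smul_mem_natSpan_image (P := P) g h
      rwa [smul_neg, ← root_smul_idx, smul_inv_smul] at this

lemma isPosSys_posOf [Finite ι] {Δ : Set ι} (hΔ : IsSimpleSys P Δ) : IsPosSys P (posOf P Δ) where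
  disjoint := by
    intro i hi hi'
    rw [mem_posOf_iff hΔ] at hi hi'
    rw [coef_neg] at hi'
    apply coef_ne_zero hΔ i
    ext j
    have h1 := hi j
    have h2 := hi' j
    simp only [Finsupp.coe_neg, Pi.neg_apply, Left.nonneg_neg_iff] at h2
    simp only [Finsupp.coe_zero, Pi.zero_apply]
    omega
  cover := by
    intro i
    rcases hΔ.mem_or_neg_mem i with h | h
    · exact Or.inl h
    · right
      show P.root (P.reflectionPerm i i) ∈ natSpan P Δ
      rw [root_neg]; exact h
  sat := by
    intro k n hn hk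
    have hle : natSpan P (posOf P Δ) ≤ natSpan P Δ := by
      conv_lhs => unfold RootD.natSpan
      rw [AddSubmonoid.closure_le]
      rintro _ ⟨d, hd, rfl⟩
      exact hd
    replace hk := hle hk
    obtain ⟨c, hc, hpos, e⟩ := natSpan_coef hk
    have : (n : ℤ) • coef hΔ k = c := by
      apply eq_of_lc_eq hΔ (Submodule.smul_mem _ _ (coef_supp hΔ k)) hc
      rw [map_smul, coef_spec, e, natCast_zsmul]
    rw [mem_posOf_iff hΔ]
    intro j
    have h1 := hpos j
    rw [← this] at h1
    simp only [Finsupp.coe_smul, Pi.smul_apply, smul_eq_mul] at h1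
    have hn' : (0 : ℤ) < n := by exact_mod_cast hn
    by_contra hneg
    push Not at hneg
    have := mul_neg_of_pos_of_neg hn' hneg
    linarith

/-- Two non-negative combinations with disjoint supports of pairwise obtuse roots which agree must
both vanish. -/
lemma lc_eq_zero_of_obtuse [Finite ι] {A : Set ι}
    (hA : ∀ a ∈ A, ∀ b ∈ A, a ≠ b → P.pairing a b ≤ 0) {cp cn : ι →₀ ℤ}
    (hcp0 : ∀ j, 0 ≤ cp j) (hcn0 : ∀ j, 0 ≤ cn j) (hdisj : ∀ j, cp j * cn j = 0)
    (hcpS : cp ∈ Finsupp.supported ℤ ℤ A) (hcnS : cn ∈ Finsupp.supported ℤ ℤ A)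
    (hx : Finsupp.linearCombination ℤ P.root cp = Finsupp.linearCombination ℤ P.root cn) :
    Finsupp.linearCombination ℤ P.root cp = 0 := by
  classical
  have := Fintype.ofFinite ι
  set x := Finsupp.linearCombination ℤ P.root cp with hxdef
  have hRF : P.RootForm x x ≤ 0 := by
    conv_lhs => arg 2; rw [hx]
    rw [rootForm_lc]
    apply Finset.sum_nonpos
    intro b _
    rw [hxdef, rootForm_comm, rootForm_lc]
    rw [Finset.mul_sum]
    apply Finset.sum_nonpos
    intro a _
    by_cases hab : a = b
    · subst hab; rw [← mul_assoc, mul_comm (cn a), hdisj a, zero_mul]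
    · by_cases ha : cp a = 0
      · rw [ha, zero_mul, mul_zero]
      by_cases hb : cn b = 0
      · rw [hb, zero_mul]
      have haI : a ∈ A := hcpS (Finsupp.mem_support_iff.mpr ha)
      have hbI : b ∈ A := hcnS (Finsupp.mem_support_iff.mpr hb)
      have hp := hA a haI b hbI hab
      have h2 := two_mul_rootForm_root P b a
      have hposb := rootForm_root_pos P b
      have hrf : P.RootForm (P.root b) (P.root a) ≤ 0 := by nlinarith
      have := mul_nonneg (hcn0 b) (hcp0 a)
      calc cn b * (cp a * P.RootForm (P.root b) (P.root a))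
          = (cn b * cp a) * P.RootForm (P.root b) (P.root a) := by ring
        _ ≤ 0 := mul_nonpos_of_nonneg_of_nonpos this hrf
  have hxspan : x ∈ Submodule.span ℤ (Set.range P.root) := by
    rw [hxdef, Finsupp.linearCombination_apply]
    exact Submodule.finsuppSum_mem _ _ _ _
      (fun j _ => Submodule.smul_mem _ _ (Submodule.subset_span ⟨j, rfl⟩))
  exact P.eq_zero_of_mem_rootSpan_of_rootForm_self_eq_zero hxspan
    (le_antisymm hRF (P.zero_le_rootForm x))

/-- Positive and negative parts of an integer-valued finitely supported function. -/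
lemma exists_pos_neg_parts (c : ι →₀ ℤ) : ∃ cp cn : ι →₀ ℤ, c = cp - cn ∧ (∀ j, 0 ≤ cp j) ∧
    (∀ j, 0 ≤ cn j) ∧ (∀ j, cp j * cn j = 0) ∧ (∀ j, cp j ≠ 0 → c j ≠ 0) ∧
    (∀ j, cn j ≠ 0 → c j ≠ 0) := by
  refine ⟨Finsupp.mapRange (fun z : ℤ => max z 0) (by simp) c,
    Finsupp.mapRange (fun z : ℤ => max (-z) 0) (by simp) c, ?_, ?_, ?_, ?_, ?_, ?_⟩
  · ext j; simp only [Finsupp.coe_sub, Pi.sub_apply, Finsupp.mapRange_apply]
    rcases le_total 0 (c j) with h | h
    · rw [max_eq_left h, max_eq_right (by linarith)]; ring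
    · rw [max_eq_right h, max_eq_left (by linarith)]; ring
  · intro j; simp
  · intro j; simp
  · intro j; simp only [Finsupp.mapRange_apply]
    rcases le_total 0 (c j) with h | h
    · rw [max_eq_right (by linarith : -c j ≤ 0), mul_zero]
    · rw [max_eq_right h, zero_mul]
  · intro j hj h; apply hj; simp [h]
  · intro j hj h; apply hj; simp [h]

/-- Every finite root pairing over ℤ has a system of positive roots (cut out by a lexicographic
functional built from the coroots). -/
theorem exists_posSys [Finite ι] : ∃ S : Set ι, IsPosSys P S := by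
  obtain ⟨n, ⟨e⟩⟩ := Finite.exists_equiv_fin ι
  let φ : M →+ Lex (Fin n → ℤ) :=
    { toFun := fun x => toLex (fun t => P.toLinearMap x (P.coroot (e.symm t)))
      map_zero' := by simp only [map_zero, LinearMap.zero_apply]; rfl
      map_add' := fun x y => by simp only [map_add, LinearMap.add_apply]; rfl }
  have hφ0 : ∀ i, φ (P.root i) ≠ 0 := by
    intro i h
    have := congrArg (fun z : Lex (Fin n → ℤ) => (ofLex z : Fin n → ℤ) (e i)) h
    simp only [φ, AddMonoidHom.coe_mk, ZeroHom.coe_mk, ofLex_toLex, Equiv.symm_apply_apply,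
      RootPairing.root_coroot_eq_pairing, RootPairing.pairing_same] at this
    have h2 : (ofLex (0 : Lex (Fin n → ℤ)) : Fin n → ℤ) (e i) = 0 := rfl
    rw [h2] at this
    exact absurd this (by norm_num)
  have hφ : ∀ i : ι, 0 < φ (P.root i) ∨ φ (P.root i) < 0 := fun i =>
    (lt_or_gt_of_ne (hφ0 i).symm).imp id id
  have hneg : ∀ a : ι, φ (P.root (P.reflectionPerm a a)) = - φ (P.root a) := fun a => by
    rw [root_neg, map_neg]
  refine ⟨{i : ι | 0 < φ (P.root i)}, ⟨?_, ?_, ?_⟩⟩
  · intro i hi
    show ¬ (0 < φ (P.root (P.reflectionPerm i i)))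
    rw [hneg]
    intro h'
    exact lt_asymm hi (neg_pos.mp h')
  · intro i
    rcases hφ i with h | h
    · exact Or.inl h
    · right
      show 0 < φ (P.root (P.reflectionPerm i i))
      rw [hneg]
      exact neg_pos.mpr h
  · intro k m hm hk
    have hnn : ∀ x ∈ natSpan P {i : ι | 0 < φ (P.root i)}, 0 ≤ φ x := by
      intro x hx
      unfold RootD.natSpan at hx
      induction hx using AddSubmonoid.closure_induction with
      | mem x hx =>
        obtain ⟨i, hi, rfl⟩ := hx
        exact hi.le
      | zero => simp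
      | add x y _ _ hx hy => rw [map_add]; exact add_nonneg hx hy
    have h0 := hnn _ hk
    rw [map_nsmul] at h0
    rcases hφ k with h | h
    · exact h
    · exfalso
      have := nsmul_neg h (Nat.pos_iff_ne_zero.mp hm)
      exact lt_irrefl _ (lt_of_le_of_lt h0 this)

variable {S : Set ι} (hS : IsPosSys P S)
include hS

/-- A non-negative combination of positive roots which vanishes is trivial. -/
lemma lc_eq_zero_of_nonneg {c : ι →₀ ℤ} (hc : ∀ j, 0 ≤ c j)
    (hsupp : c ∈ Finsupp.supported ℤ ℤ S) (h0 : Finsupp.linearCombination ℤ P.root c = 0) :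
    c = 0 := by
  classical
  by_contra hne
  obtain ⟨a, ha⟩ : ∃ a, c a ≠ 0 := by
    by_contra h
    push Not at h
    exact hne (Finsupp.ext h)
  have haS : a ∈ S := hsupp (Finsupp.mem_support_iff.mpr ha)
  have hpos : 0 < c a := lt_of_le_of_ne (hc a) (Ne.symm ha)
  set d : ι →₀ ℤ := c - Finsupp.single a (c a) with hd
  have hdnn : ∀ j, 0 ≤ d j := by
    intro j
    simp only [hd, Finsupp.coe_sub, Pi.sub_apply]
    by_cases hj : j = a
    · subst hj; simp
    · rw [Finsupp.single_eq_of_ne hj, sub_zero]; exact hc j
  have hdsupp : d ∈ Finsupp.supported ℤ ℤ S :=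
    Submodule.sub_mem _ hsupp (Finsupp.single_mem_supported ℤ _ haS)
  have hmem := lc_mem_natSpan (P := P) hdnn hdsupp
  have e : Finsupp.linearCombination ℤ P.root d = (c a).toNat • P.root (P.reflectionPerm a a) := by
    rw [hd, map_sub, h0, zero_sub, Finsupp.linearCombination_single, root_neg P a, smul_neg,
      ← natCast_zsmul, Int.toNat_of_nonneg (hc a)]
  rw [e] at hmem
  have := hS.sat _ (by omega) hmem
  exact hS.disjoint haS this

lemma neg_root_not_mem_natSpan {j : ι} (hj : j ∈ S) : -P.root j ∉ natSpan P S := by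
  intro h
  have : P.reflectionPerm j j ∈ S := hS.sat 1 one_pos (by rw [one_smul, root_neg P j]; exact h)
  exact hS.disjoint hj this

/-- The indecomposable elements of a positive system. -/
def indec (S : Set ι) : Set ι :=
  {k | k ∈ S ∧ ¬ ∃ i j : ι, i ∈ S ∧ j ∈ S ∧ P.root k = P.root i + P.root j}

omit hS in
lemma indec_subset : indec (P := P) S ⊆ S := fun _ hk => hk.1

lemma pairing_le_zero_of_indec [Finite ι] {i j : ι} (hi : i ∈ indec (P := P) S)
    (hj : j ∈ indec (P := P) S) (hij : i ≠ j) : P.pairing i j ≤ 0 := by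
  by_contra hpos
  push Not at hpos
  obtain ⟨k, hk⟩ := P.root_sub_root_mem_of_pairingIn_pos (i := i) (j := j)
    (by rw [pairingIn_eq]; exact hpos) hij
  rcases hS.cover k with h | h
  · exact hi.2 ⟨k, j, h, hj.1, by rw [hk]; abel⟩
  · exact hj.2 ⟨P.reflectionPerm k k, i, h, hi.1, by rw [root_neg, hk]; abel⟩

lemma linIndep_indec [Finite ι] : LinearIndepOn ℤ P.root (indec (P := P) S) := by
  classical
  have := Fintype.ofFinite ι
  rw [linearIndepOn_iff]
  intro c hc h0
  -- positive and negative parts
  set cp : ι →₀ ℤ := Finsupp.mapRange (fun z : ℤ => max z 0) (by simp) c with hcp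
  set cn : ι →₀ ℤ := Finsupp.mapRange (fun z : ℤ => max (-z) 0) (by simp) c with hcn
  have hcpn : c = cp - cn := by
    ext j; simp only [hcp, hcn, Finsupp.coe_sub, Pi.sub_apply, Finsupp.mapRange_apply]
    rcases le_total 0 (c j) with h | h
    · rw [max_eq_left h, max_eq_right (by linarith)]; ring
    · rw [max_eq_right h, max_eq_left (by linarith)]; ring
  have hcp0 : ∀ j, 0 ≤ cp j := fun j => by simp [hcp]
  have hcn0 : ∀ j, 0 ≤ cn j := fun j => by simp [hcn]
  have hdisj : ∀ j, cp j * cn j = 0 := by
    intro j; simp only [hcp, hcn, Finsupp.mapRange_apply]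
    rcases le_total 0 (c j) with h | h
    · rw [max_eq_right (by linarith : -c j ≤ 0), mul_zero]
    · rw [max_eq_right h, zero_mul]
  have hcpS : cp ∈ Finsupp.supported ℤ ℤ (indec (P := P) S) := by
    intro j hj
    apply hc
    simp only [Finset.mem_coe, Finsupp.mem_support_iff] at hj ⊢
    intro h; apply hj; simp [hcp, h]
  have hcnS : cn ∈ Finsupp.supported ℤ ℤ (indec (P := P) S) := by
    intro j hj
    apply hc
    simp only [Finset.mem_coe, Finsupp.mem_support_iff] at hj ⊢
    intro h; apply hj; simp [hcn, h]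
  set x := Finsupp.linearCombination ℤ P.root cp with hx
  have hxn : Finsupp.linearCombination ℤ P.root cn = x := by
    have := h0; rw [hcpn, map_sub, sub_eq_zero] at this; exact this.symm
  -- the form is non-positive on x
  have hRF : P.RootForm x x ≤ 0 := by
    conv_lhs => arg 2; rw [← hxn]
    rw [rootForm_lc]
    apply Finset.sum_nonpos
    intro b _
    rw [hx, rootForm_comm, rootForm_lc]
    rw [Finset.mul_sum]
    apply Finset.sum_nonpos
    intro a _
    by_cases hab : a = b
    · subst hab; rw [← mul_assoc, mul_comm (cn a), hdisj a, zero_mul]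
    · by_cases ha : cp a = 0
      · rw [ha, zero_mul, mul_zero]
      by_cases hb : cn b = 0
      · rw [hb, zero_mul]
      have haI : a ∈ indec (P := P) S := hcpS (Finsupp.mem_support_iff.mpr ha)
      have hbI : b ∈ indec (P := P) S := hcnS (Finsupp.mem_support_iff.mpr hb)
      have hp := pairing_le_zero_of_indec hS haI hbI hab
      have h2 := two_mul_rootForm_root P b a
      have hposb := rootForm_root_pos P b
      have hrf : P.RootForm (P.root b) (P.root a) ≤ 0 := by nlinarith
      have := mul_nonneg (hcn0 b) (hcp0 a)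
      calc cn b * (cp a * P.RootForm (P.root b) (P.root a))
          = (cn b * cp a) * P.RootForm (P.root b) (P.root a) := by ring
        _ ≤ 0 := mul_nonpos_of_nonneg_of_nonpos this hrf
  have hx0 : x = 0 := by
    have hxspan : x ∈ Submodule.span ℤ (Set.range P.root) := by
      rw [hx, Finsupp.linearCombination_apply]
      exact Submodule.finsuppSum_mem _ _ _ _
        (fun j _ => Submodule.smul_mem _ _ (Submodule.subset_span ⟨j, rfl⟩))
    exact P.eq_zero_of_mem_rootSpan_of_rootForm_self_eq_zero hxspan
      (le_antisymm hRF (P.zero_le_rootForm x))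
  have hcp_0 : cp = 0 := lc_eq_zero_of_nonneg hS hcp0
    (Finsupp.supported_mono (indec_subset (P := P)) hcpS) (by rw [← hx, hx0])
  have hcn_0 : cn = 0 := lc_eq_zero_of_nonneg hS hcn0
    (Finsupp.supported_mono (indec_subset (P := P)) hcnS) (by rw [hxn, hx0])
  rw [hcpn, hcp_0, hcn_0, sub_zero]

lemma mem_natSpan_indec [Finite ι] {k : ι} (hk : k ∈ S) : P.root k ∈ natSpan P (indec (P := P) S) := by
  classical
  have := Fintype.ofFinite ι
  let μ : ι → ℕ := fun k =>
    (Finset.univ.filter (fun l => l ∈ S ∧ P.root k - P.root l ∈ natSpan P S)).card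
  suffices H : ∀ n : ℕ, ∀ k : ι, k ∈ S → μ k ≤ n → P.root k ∈ natSpan P (indec (P := P) S) from
    H _ k hk le_rfl
  intro n
  induction n with
  | zero =>
    intro k hk hμ
    exfalso
    have : k ∈ Finset.univ.filter (fun l => l ∈ S ∧ P.root k - P.root l ∈ natSpan P S) := by
      simp only [Finset.mem_filter, Finset.mem_univ, true_and, sub_self]
      exact ⟨hk, AddSubmonoid.zero_mem _⟩
    have hpos := Finset.card_pos.mpr ⟨k, this⟩
    simp only [μ] at hμ
    omega
  | succ n ih =>
    intro k hk hμ
    by_cases hkI : k ∈ indec (P := P) S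
    · exact AddSubmonoid.subset_closure ⟨k, hkI, rfl⟩
    · have : ∃ i j : ι, i ∈ S ∧ j ∈ S ∧ P.root k = P.root i + P.root j := by
        by_contra h
        exact hkI ⟨hk, h⟩
      obtain ⟨i, j, hi, hj, hkij⟩ := this
      have hlt : ∀ a b : ι, a ∈ S → b ∈ S → P.root k = P.root a + P.root b → μ a < μ k := by
        intro a b ha hb hab
        apply Finset.card_lt_card
        rw [Finset.ssubset_iff_of_subset]
        · refine ⟨k, ?_, ?_⟩
          · simp only [Finset.mem_filter, Finset.mem_univ, true_and, sub_self]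
            exact ⟨hk, AddSubmonoid.zero_mem _⟩
          · simp only [Finset.mem_filter, Finset.mem_univ, true_and, not_and]
            intro _ hmem
            apply neg_root_not_mem_natSpan hS hb
            rw [hab] at hmem
            convert hmem using 1
            abel
        · intro l hl
          simp only [Finset.mem_filter, Finset.mem_univ, true_and] at hl ⊢
          refine ⟨hl.1, ?_⟩
          have e : P.root k - P.root l = P.root b + (P.root a - P.root l) := by rw [hab]; abel
          rw [e]
          exact AddSubmonoid.add_mem _ (AddSubmonoid.subset_closure ⟨b, hb, rfl⟩) hl.2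
      have h1 := hlt i j hi hj hkij
      have h2 := hlt j i hj hi (by rw [hkij, add_comm])
      rw [hkij]
      exact AddSubmonoid.add_mem _ (ih i hi (by omega)) (ih j hj (by omega))

theorem isSimpleSys_indec [Finite ι] : IsSimpleSys P (indec (P := P) S) where
  linInd := linIndep_indec hS
  mem_or_neg_mem k := by
    rcases hS.cover k with h | h
    · exact Or.inl (mem_natSpan_indec hS h)
    · right
      have := mem_natSpan_indec hS h
      rwa [root_neg P k] at this

end Groth.Agent.H8
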