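import Groth.Agent.H8.RootLib
import Groth.Agent.S5504
import Groth.Agent.S5508

/-!
helper8: words in simple reflections for root data (RootD): every Weyl group element is a product
of simple reflections, minimal words, and triviality of the stabiliser of a simple system.
-/

set_option autoImplicit false

namespace Groth.Agent.H8

open RootD RootPairing
open scoped Pointwise

variable {ι M N : Type*} [AddCommGroup M] [AddCommGroup N]

/-- The product of the simple reflections of a word. -/
noncomputable def wprod (P : RootPairing ι ℤ M N) (l : List ι) : P.Aut :=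
  (l.map fun a => Equiv.reflection P a).prod

lemma wprod_nil (P : RootPairing ι ℤ M N) : wprod P [] = 1 := rfl

lemma wprod_cons (P : RootPairing ι ℤ M N) (a : ι) (l : List ι) :
    wprod P (a :: l) = Equiv.reflection P a * wprod P l := by
  simp [wprod]

lemma wprod_append (P : RootPairing ι ℤ M N) (l l' : List ι) :
    wprod P (l ++ l') = wprod P l * wprod P l' := by
  simp [wprod]

lemma wprod_reverse (P : RootPairing ι ℤ M N) (l : List ι) :
    wprod P l.reverse = (wprod P l)⁻¹ := by
  induction l with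
  | nil => simp [wprod]
  | cons a l ih =>
    rw [List.reverse_cons, wprod_append, ih]
    conv_rhs => rw [wprod_cons, mul_inv_rev]
    simp [wprod, RootPairing.Equiv.reflection_inv]

lemma exists_word_of_mem_closure (P : RootPairing ι ℤ M N) (S : Set ι) {g : P.Aut}
    (hg : g ∈ Subgroup.closure ((fun i : ι => Equiv.reflection P i) '' S)) :
    ∃ l : List ι, (∀ a ∈ l, a ∈ S) ∧ wprod P l = g := by
  induction hg using Subgroup.closure_induction with
  | mem x hx =>
    obtain ⟨a, ha, rfl⟩ := hx
    exact ⟨[a], by simpa using ha, by simp [wprod]⟩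
  | one => exact ⟨[], by simp, rfl⟩
  | mul x y _ _ hx hy =>
    obtain ⟨l1, h1, rfl⟩ := hx
    obtain ⟨l2, h2, rfl⟩ := hy
    refine ⟨l1 ++ l2, ?_, wprod_append P l1 l2⟩
    intro a ha
    rcases List.mem_append.mp ha with h | h
    · exact h1 a h
    · exact h2 a h
  | inv x _ hx =>
    obtain ⟨l, h, rfl⟩ := hx
    exact ⟨l.reverse, fun a ha => h a (List.mem_reverse.mp ha), wprod_reverse P l⟩

lemma wprod_mem_closure (P : RootPairing ι ℤ M N) (S : Set ι) (l : List ι) (hl : ∀ a ∈ l, a ∈ S) :
    wprod P l ∈ Subgroup.closure ((fun i : ι => Equiv.reflection P i) '' S) := by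
  induction l with
  | nil => exact Subgroup.one_mem _
  | cons a l ih =>
    rw [wprod_cons]
    refine Subgroup.mul_mem _ (Subgroup.subset_closure ⟨a, hl a List.mem_cons_self, rfl⟩) ?_
    exact ih (fun b hb => hl b (List.mem_cons_of_mem a hb))

lemma exists_min_word (P : RootPairing ι ℤ M N) (S : Set ι) {g : P.Aut}
    (hg : ∃ l : List ι, (∀ a ∈ l, a ∈ S) ∧ wprod P l = g) :
    ∃ l : List ι, (∀ a ∈ l, a ∈ S) ∧ wprod P l = g ∧
      ∀ l' : List ι, (∀ a ∈ l', a ∈ S) → wprod P l' = g → l.length ≤ l'.length := by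
  classical
  have hex : ∃ n : ℕ, ∃ l : List ι, (∀ a ∈ l, a ∈ S) ∧ wprod P l = g ∧ l.length = n := by
    obtain ⟨l, hl, hp⟩ := hg
    exact ⟨l.length, l, hl, hp, rfl⟩
  obtain ⟨l, hl, hp, hlen⟩ := Nat.find_spec hex
  refine ⟨l, hl, hp, fun l' hl' hp' => ?_⟩
  rw [hlen]
  exact Nat.find_min' hex ⟨l', hl', hp', rfl⟩

section Simple

variable {P : RootPairing ι ℤ M N} {Δ : Set ι} (hΔ : IsSimpleSys P Δ)
include hΔ

lemma not_pos_and_neg (k : ι) (h1 : P.root k ∈ natSpan P Δ) (h2 : -P.root k ∈ natSpan P Δ) :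
    False := by
  apply coef_ne_zero hΔ k
  ext j
  exact le_antisymm (coef_nonpos_of_neg_mem hΔ h2 j) (coef_nonneg_of_mem hΔ h1 j)

lemma mem_closure_of_mem_weyl [Finite ι] {g : P.Aut} (hg : g ∈ P.weylGroup) :
    g ∈ Subgroup.closure ((fun i : ι => Equiv.reflection P i) '' Δ) := by
  rw [(Groth.Agent.S5508.result P Δ hΔ).1]
  exact hg

lemma exists_word_of_mem_weyl [Finite ι] {g : P.Aut} (hg : g ∈ P.weylGroup) :
    ∃ l : List ι, (∀ a ∈ l, a ∈ Δ) ∧ wprod P l = g :=
  exists_word_of_mem_closure P Δ (mem_closure_of_mem_weyl hΔ hg)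

/-- The last letter of a minimal word is sent to a negative root. -/
lemma neg_last_of_min [Finite ι] (l : List ι) (hl : ∀ a ∈ l, a ∈ Δ) (hne : l ≠ [])
    (hmin : ∀ l' : List ι, (∀ a ∈ l', a ∈ Δ) → wprod P l' = wprod P l → l.length ≤ l'.length) :
    -P.root (wprod P l • l.getLast hne) ∈ natSpan P Δ :=
  Groth.Agent.S5504.result P Δ hΔ l hl hne hmin

/-- An element of the Weyl group stabilising a simple system is trivial. -/
lemma eq_one_of_stab [Finite ι] {g : P.Aut} (hg : g ∈ P.weylGroup)
    (hstab : (fun i : ι => g • i) '' Δ = Δ) : g = 1 := by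
  obtain ⟨l, hl, hp, hmin⟩ := exists_min_word P Δ (exists_word_of_mem_weyl hΔ hg)
  by_cases hne : l = []
  · rw [← hp, hne, wprod_nil]
  · exfalso
    have hneg := neg_last_of_min hΔ l hl hne (fun l' hl' h => hmin l' hl' (h.trans hp))
    rw [hp] at hneg
    have hlast : l.getLast hne ∈ Δ := hl _ (List.getLast_mem hne)
    have hmem : g • l.getLast hne ∈ Δ := by
      rw [← hstab]
      exact ⟨_, hlast, rfl⟩
    exact not_pos_and_neg hΔ _ (simple_mem_posOf hmem) hneg

end Simple

end Groth.Agent.H8
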